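import Mathlib.RingTheory.NoetherNormalization
import Mathlib.RingTheory.Ideal.GoingUp
import Mathlib.AlgebraicGeometry.Morphisms.FiniteType
import Mathlib.AlgebraicGeometry.Noetherian
import Mathlib.RingTheory.Jacobson.Ring
import Mathlib.AlgebraicGeometry.Morphisms.QuasiCompact
import Groth.Agent.Lib.AssPts.Points

/-!
Over an uncountable field countably many proper closed subsets do not cover the closed points.
-/

set_option backward.isDefEq.respectTransparency false

universe u

open AlgebraicGeometry CategoryTheory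
open GrothLib.WeakAss (primeAt notMem_primeAt_iff)

namespace GrothLib.Uncountable

theorem exists_eval_ne_zero {k : Type*} [Field k] [Uncountable k] :
    ∀ (d : ℕ) (p : ℕ → MvPolynomial (Fin d) k), (∀ n, p n ≠ 0) →
      ∃ x : Fin d → k, ∀ n, MvPolynomial.eval x (p n) ≠ 0 := by
  intro d
  induction d with
  | zero =>
    intro p hp
    refine ⟨Fin.elim0, fun n h => hp n ?_⟩
    rw [MvPolynomial.eq_C_of_isEmpty (p n)] at h ⊢
    rw [MvPolynomial.eval_C] at h
    rw [h, map_zero]
  | succ d ih =>
    intro p hp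
    have hq : ∀ n, MvPolynomial.finSuccEquiv k d (p n) ≠ 0 := fun n => by simpa using hp n
    obtain ⟨x, hx⟩ := ih (fun n => (MvPolynomial.finSuccEquiv k d (p n)).leadingCoeff)
      (fun n => by simpa using hp n)
    have hne : ∀ n, (MvPolynomial.finSuccEquiv k d (p n)).map (MvPolynomial.eval x) ≠ 0 := fun n e => hx n (by
      have h0 := congrArg (fun r => Polynomial.coeff r (MvPolynomial.finSuccEquiv k d (p n)).natDegree) e
      simp only [Polynomial.coeff_map, Polynomial.coeff_zero] at h0
      exact h0)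
    have hcount : (⋃ n, {y : k | ((MvPolynomial.finSuccEquiv k d (p n)).map (MvPolynomial.eval x)).IsRoot y}).Countable :=
      Set.countable_iUnion fun n => (Polynomial.finite_setOf_isRoot (hne n)).countable
    obtain ⟨y, hy⟩ : ∃ y, y ∉ ⋃ n, {y : k | ((MvPolynomial.finSuccEquiv k d (p n)).map (MvPolynomial.eval x)).IsRoot y} := by
      by_contra! h
      exact Set.not_countable_univ (α := k) (hcount.mono fun y _ => h y)
    refine ⟨Fin.cons y x, fun n e => hy (Set.mem_iUnion.mpr ⟨n, ?_⟩)⟩
    rw [MvPolynomial.eval_eq_eval_mv_eval'] at e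
    exact e

/-- In a domain of finite type over an uncountable field, countably many nonzero elements avoid a maximal ideal. -/
theorem exists_maximal_of_domain (k B : Type u) [Field k] [Uncountable k] [CommRing B] [IsDomain B]
    [Algebra k B] [Algebra.FiniteType k B] (a : ℕ → B) (ha : ∀ n, a n ≠ 0) :
    ∃ m : Ideal B, m.IsMaximal ∧ ∀ n, a n ∉ m := by
  classical
  obtain ⟨s, g, hginj, hgint⟩ := exists_integral_inj_algHom_of_fg k B
  let _ := g.toRingHom.toAlgebra
  have : Algebra.IsIntegral (MvPolynomial (Fin s) k) B := ⟨hgint⟩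
  choose f hf hfr using fun n => Algebra.IsIntegral.isIntegral (R := MvPolynomial (Fin s) k) (a n)
  let c := fun n => ∏ i ∈ (f n).support, (f n).coeff i
  have hc : ∀ n, c n ≠ 0 := fun n => Finset.prod_ne_zero_iff.mpr fun i hi => Polynomial.mem_support_iff.mp hi
  obtain ⟨x, hx⟩ := exists_eval_ne_zero s c hc
  have hmax : (RingHom.ker (MvPolynomial.eval x)).IsMaximal :=
    RingHom.ker_isMaximal_of_surjective _ fun r => ⟨MvPolynomial.C r, MvPolynomial.eval_C r⟩
  obtain ⟨Q, hQ, hQc⟩ := Ideal.exists_ideal_over_maximal_of_isIntegral (S := B) (RingHom.ker (MvPolynomial.eval x))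
    (by rw [(RingHom.injective_iff_ker_eq_bot (algebraMap (MvPolynomial (Fin s) k) B)).mp hginj]; exact bot_le)
  refine ⟨Q, hQ, fun n han => ?_⟩
  obtain ⟨i, hi, hmem⟩ := Ideal.exists_coeff_ne_zero_mem_comap_of_root_mem (ha n) han (hf n).ne_zero (hfr n)
  rw [show Q.comap (algebraMap (MvPolynomial (Fin s) k) B) = RingHom.ker (MvPolynomial.eval x) from hQc] at hmem
  refine hx n ?_
  rw [map_prod]
  exact Finset.prod_eq_zero (Polynomial.mem_support_iff.mpr hi) hmem

/-- Countably many closed subsets missing a point miss a closed point in its closure and in any neighbourhood. -/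
theorem exists_closedPoint_specializes {k : Type u} [Field k] [Uncountable k] {X : Scheme.{u}}
    (sX : X ⟶ Spec (CommRingCat.of k)) [LocallyOfFiniteType sX]
    (Z : ℕ → TopologicalSpace.Closeds X) (η : X) (hZ : ∀ n, η ∉ Z n) (O : X.Opens) (hηO : η ∈ O) :
    ∃ x ∈ O, IsClosed ({x} : Set X) ∧ η ⤳ x ∧ ∀ n, x ∉ Z n := by
  classical
  obtain ⟨_, ⟨U, hU, rfl⟩, hηU, hUO⟩ := X.isBasis_affineOpens.exists_subset_of_mem_open hηO O.2
  have key : ∀ n, ∃ a : Γ(X, U), η ∈ X.basicOpen a ∧ ∀ z ∈ Z n, z ∉ X.basicOpen a := fun n => by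
    let W : X.Opens := ⟨(Z n : Set X)ᶜ, (Z n).isClosed.isOpen_compl⟩
    obtain ⟨a, haW, hηa⟩ := hU.exists_basicOpen_le (⟨η, hZ n⟩ : W) hηU
    exact ⟨a, hηa, fun z hz hza => haW hza hz⟩
  choose a hηa haZ using key
  let φ : k →+* Γ(X, U) := (sX.appLE ⊤ U le_top).hom.comp (Scheme.ΓSpecIso (CommRingCat.of k)).inv.hom
  have hft : φ.FiniteType := (LocallyOfFiniteType.finiteType_appLE sX (isAffineOpen_top _) hU le_top).comp
    (RingHom.FiniteType.of_surjective _ (Scheme.ΓSpecIso (CommRingCat.of k)).commRingCatIsoToRingEquiv.symm.surjective)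
  let _ : Algebra k Γ(X, U) := φ.toAlgebra
  have : Algebra.FiniteType k Γ(X, U) := hft
  let P := primeAt η hηU
  obtain ⟨m, hm, hma⟩ := exists_maximal_of_domain k (Γ(X, U) ⧸ P) (fun n => Ideal.Quotient.mk P (a n))
    (fun n => fun h => notMem_primeAt_iff.mpr (hηa n) (Ideal.Quotient.eq_zero_iff_mem.mp h))
  have hM : (m.comap (Ideal.Quotient.mk P)).IsMaximal := Ideal.comap_isMaximal_of_surjective _ Ideal.Quotient.mk_surjective
  obtain ⟨x, hxU, hxM⟩ := GrothLib.AssPts.exists_point hU _ hM.isPrime
  have : JacobsonSpace X := LocallyOfFiniteType.jacobsonSpace sX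
  have hcl : IsClosed ({x} : Set X) := by
    have h1 : IsClosed ({(⟨x, hxU⟩ : U)} : Set U) := by
      rw [← closure_eq_iff_isClosed]
      refine Set.Subset.antisymm (fun w hw => ?_) subset_closure
      have hsp : x ⤳ w.1 := (specializes_iff_mem_closure.mpr hw).map continuous_subtype_val
      have hle := (GrothLib.AssPts.specializes_iff hU hxU w.2).mp hsp
      rw [hxM] at hle
      have := hM.eq_of_le (inferInstance : (primeAt w.1 w.2).IsPrime).ne_top hle
      exact Subtype.ext (GrothLib.AssPts.primeAt_injective hU w.2 hxU (this.symm.trans hxM.symm))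
    have h2 := U.2.isOpenEmbedding_subtypeVal.preimage_closedPoints
    have h3 : (⟨x, hxU⟩ : U) ∈ closedPoints U := h1
    exact h2.ge h3
  refine ⟨x, hUO hxU, hcl, (GrothLib.AssPts.specializes_iff hU hηU hxU).mpr (fun c hc => ?_), fun n hn => haZ n x hn ?_⟩
  · rw [hxM, Ideal.mem_comap, Ideal.Quotient.eq_zero_iff_mem.mpr hc]
    exact zero_mem m
  rw [← notMem_primeAt_iff (hx := hxU), hxM]
  exact hma n

/-- Countably many proper closed subsets of an irreducible scheme of finite type over an uncountable field miss a closed point in any nonempty open. -/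
theorem exists_closedPoint_notMem {k : Type u} [Field k] [Uncountable k] {X : Scheme.{u}}
    (sX : X ⟶ Spec (CommRingCat.of k)) [IrreducibleSpace X] [LocallyOfFiniteType sX]
    (Z : ℕ → TopologicalSpace.Closeds X) (hZ : ∀ n, (Z n : Set X) ≠ Set.univ) (O : X.Opens)
    (hO : (O : Set X).Nonempty) : ∃ x ∈ O, IsClosed ({x} : Set X) ∧ ∀ n, x ∉ Z n := by
  obtain ⟨y, hy⟩ := hO
  obtain ⟨x, hxO, hx, -, hxZ⟩ := exists_closedPoint_specializes sX Z (genericPoint X)
    (fun n h => hZ n (Set.eq_univ_of_forall fun w => ((genericPoint_spec X).specializes trivial).mem_closed (Z n).isClosed h))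
    O (((genericPoint_spec X).specializes trivial).mem_open O.2 hy)
  exact ⟨x, hxO, hx, hxZ⟩

end GrothLib.Uncountable
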